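import Cfsg.Agent.Lib.TC.D.HeSp44.Tab
import Cfsg.Agent.Lib.TC.Chain

namespace Cfsg.Agent.Lib.TC.D.HeChain.Lev

open Cfsg.Agent.Lib.TC.Core Cfsg.Agent.Lib.TC.Enc Cfsg.Agent.Lib.TC.Pres Cfsg.Agent.Lib.TC.Perm Cfsg.Agent.Lib.TC.Main Cfsg.Agent.Lib.TC.Chain

set_option maxRecDepth 100000

open Cfsg.Agent.Lib.TC.D.HeSp44.Tab Cfsg.Agent.Lib.TC.Chain.PermLev

/-- The levels of a chain of stabilizers. -/
def levels : List Lev :=
  [⟨46,
   [[0],
    [2],
    [3],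
    [4],
    [5],
    [1,0,1,0],
    [4,3,2,1,4,3,2,1,4,3,2,1,4,3,2,1,4,3,2,1,4,3,2,1,4,3,2,1]],
   [(79,46,3),
    (82,46,4),
    (84,46,5),
    (1381,46,6),
    (137,79,2),
    (81,79,4),
    (135,79,5),
    (934,79,6),
    (141,82,2),
    (142,82,5),
    (913,82,6),
    (1739,84,6),
    (1367,1381,0),
    (1365,1381,3),
    (956,1381,4),
    (217,137,1),
    (213,137,4),
    (1769,137,6),
    (140,81,2),
    (916,81,6),
    (1737,135,6),
    (1366,934,2),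
    (607,934,4),
    (218,141,1),
    (219,141,3),
    (917,141,6),
    (691,142,6),
    (574,913,0),
    (1349,913,2),
    (949,913,3),
    (1350,913,4),
    (1732,1739,0),
    (1323,1739,3),
    (1338,1739,4),
    (964,1367,4),
    (962,1365,4),
    (1383,956,2),
    (918,956,6),
    (167,217,2),
    (169,217,4),
    (1875,217,6),
    (1738,213,6),
    (1799,1769,4),
    (1072,140,6),
    (1075,916,2),
    (839,916,4),
    (1926,1737,2),
    (1336,1737,4),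
    (1770,1366,1),
    (1771,1366,4),
    (963,607,2),
    (1166,607,6),
    (340,218,2),
    (230,218,3),
    (1352,218,6),
    (1105,219,6),
    (1078,917,3),
    (1068,691,0),
    (1079,691,4),
    (1756,1349,1),
    (1312,1732,4),
    (903,1323,4),
    (1748,1338,2),
    (1353,1338,6),
    (1396,964,2),
    (1373,964,6),
    (1392,962,2),
    (1779,962,6),
    (1780,1383,1),
    (1781,1383,3),
    (103,167,1),
    (170,167,4),
    (99,167,5),
    (1550,167,6),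
    (1624,169,6),
    (1540,1875,2),
    (1912,1875,4),
    (2001,1738,4),
    (1527,1799,2),
    (1978,1799,6),
    (1255,1072,4),
    (1077,1075,4),
    (503,839,2),
    (1601,1926,1),
    (1744,1336,2),
    (2013,1770,4),
    (1393,1771,2),
    (347,1771,6),
    (1394,963,3),
    (1816,963,6),
    (767,1166,2),
    (1775,1166,6),
    (544,340,1),
    (545,340,4),
    (1984,340,6),
    (1484,230,6),
    (1757,1352,2),
    (1504,1352,3),
    (1337,903,2),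
    (1488,1392,3),
    (1745,1779,2),
    (172,103,4),
    (56,103,5),
    (1546,103,6),
    (100,170,2),
    (1182,99,6),
    (1137,1550,3),
    (1199,1624,2),
    (1944,1624,4),
    (1694,1912,6),
    (1746,2001,2),
    (1110,1527,3),
    (315,1527,6),
    (1818,1978,2),
    (320,1978,6),
    (838,1255,2),
    (840,1077,2),
    (1817,1744,1),
    (548,2013,6),
    (1526,1393,3),
    (465,347,2),
    (1441,1816,4),
    (389,544,4),
    (2056,544,6),
    (2008,1757,1),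
    (259,172,2),
    (101,172,5),
    (794,56,6),
    (1194,1182,3),
    (515,1694,6),
    (504,315,3),
    (505,315,4),
    (258,389,2),
    (263,259,1),
    (171,259,3)]⟩,
  ⟨273,
   [[0],
    [2],
    [3],
    [4,1,0,1,0,3,5,3,4],
    [5,3,2,3,5,4,3,2,1,4,3,2,1,4,3,2,1,4,3,2,1,4,3,2,1,4,3,2,1,4,3,2,1,5,3,2,3,5],
    [4,3,2,3,5,4,3,2,1,4,3,2,1,4,3,2,1,4,3,2,1,4,3,2,1,4,3,2,1,4,3,2,1,5,3,2,3,4]],
   [(410,273,0),
    (414,273,1),
    (393,273,2),
    (1452,273,4),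
    (346,273,5),
    (658,410,1),
    (422,410,2),
    (1065,410,4),
    (1239,414,3),
    (1523,414,5),
    (626,393,1),
    (877,393,5),
    (1040,1452,0),
    (1029,1452,2),
    (995,1452,3),
    (550,346,1),
    (1493,658,3),
    (681,422,1),
    (665,422,4),
    (831,1239,1),
    (1472,1523,0),
    (1124,1523,2),
    (830,1523,3),
    (880,550,2),
    (1303,550,3),
    (1089,1493,1),
    (1728,681,5),
    (500,831,2),
    (1123,831,3),
    (737,1124,1),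
    (541,830,1),
    (334,500,1),
    (736,1123,1),
    (390,737,5),
    (383,541,5)]⟩,
  ⟨17,
   [[2,3,2,0],
    [4,1,0,1,0,3,5,3,4],
    [0,4,3,2,3,5,4,3,2,1,4,3,2,1,4,3,2,1,4,3,2,1,4,3,2,1,4,3,2,1,4,3,2,1,5,3,2,3,4],
    [3,5,3,2,3,5,4,3,2,1,4,3,2,1,4,3,2,1,4,3,2,1,4,3,2,1,4,3,2,1,4,3,2,1,5,3,2,3,5,2,3]],
   [(80,17,0),
    (855,17,2),
    (394,17,3),
    (595,80,2),
    (1082,855,0),
    (577,855,3),
    (569,394,0),
    (1320,394,1),
    (746,394,2)]⟩,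
  ⟨394,
   [[4,1,0,1,0,3,5,3,4],
    [2,3,2,0,4,1,0,1,0,3,5,3,4,0,2,3,2],
    [2,3,2,0,3,5,3,2,3,5,4,3,2,1,4,3,2,1,4,3,2,1,4,3,2,1,4,3,2,1,4,3,2,1,4,3,2,1,5,3,2,3,5,2,3,0,2,3,2]],
   [(1320,394,0),
    (1082,394,2),
    (595,1320,2)]⟩,
  ⟨2,
   [[2,3,2,0,4,1,0,1,0,3,5,3,4,0,2,3,2],
    [2,3,2,0,3,5,3,2,3,5,4,3,2,1,4,3,2,1,4,3,2,1,4,3,2,1,4,3,2,1,4,3,2,1,4,3,2,1,5,3,2,3,5,2,5,3,2,3,5,4,3,2,1,4,3,2,1,4,3,2,1,4,3,2,1,4,3,2,1,4,3,2,1,4,3,2,1,5,3,2,3,5,2,3,0,2,3,2,4,3,5,3,0,1,0,1,4]],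
   [(132,2,1),
    (1858,132,0),
    (806,1858,1),
    (870,806,0)]⟩,
  ⟨1,
   [[2,3,2,0,4,1,0,1,0,3,5,3,4,0,2,3,2]],
   [(139,1,0)]⟩]

theorem hlev : levsOK pt [0] levels = true := by decide +kernel

end Cfsg.Agent.Lib.TC.D.HeChain.Lev
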