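import Cfsg.Agent.Lib.TC.D.HeChain.S1_Tab
import Cfsg.Agent.Lib.TC.D.HeChain.S1_C0
import Cfsg.Agent.Lib.TC.D.HeChain.S1_C1
import Cfsg.Agent.Lib.TC.D.HeChain.S1_C2
import Cfsg.Agent.Lib.TC.D.HeChain.S1_C3
import Cfsg.Agent.Lib.TC.D.HeChain.S1_C4
import Cfsg.Agent.Lib.TC.D.HeChain.S1_C5
import Cfsg.Agent.Lib.TC.D.HeChain.S1_C6
import Cfsg.Agent.Lib.TC.D.HeChain.S1_C7
import Cfsg.Agent.Lib.TC.D.HeChain.S1_C8
import Cfsg.Agent.Lib.TC.D.HeChain.S1_C9
import Cfsg.Agent.Lib.TC.D.HeChain.S1_C10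
import Cfsg.Agent.Lib.TC.D.HeChain.S1_C11
import Cfsg.Agent.Lib.TC.D.HeChain.S1_C12
import Cfsg.Agent.Lib.TC.D.HeChain.S1_C13
import Cfsg.Agent.Lib.TC.D.HeChain.S1_C14
import Cfsg.Agent.Lib.TC.D.HeChain.S1_C15
import Cfsg.Agent.Lib.TC.D.HeChain.S1_C16
import Cfsg.Agent.Lib.TC.D.HeChain.S1_C17
import Cfsg.Agent.Lib.TC.D.HeChain.S1_C18
import Cfsg.Agent.Lib.TC.D.HeChain.S1_C19
import Cfsg.Agent.Lib.TC.D.HeChain.S1_C20
import Cfsg.Agent.Lib.TC.D.HeChain.S1_C21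
import Cfsg.Agent.Lib.TC.D.HeChain.S1_C22
import Cfsg.Agent.Lib.TC.D.HeChain.S1_C23
import Cfsg.Agent.Lib.TC.D.HeChain.S1_C24
import Cfsg.Agent.Lib.TC.D.HeChain.S1_C25
import Cfsg.Agent.Lib.TC.D.HeChain.S1_C26
import Cfsg.Agent.Lib.TC.D.HeChain.S1_C27
import Cfsg.Agent.Lib.TC.D.HeChain.S1_C28
import Cfsg.Agent.Lib.TC.D.HeChain.S1_C29
import Cfsg.Agent.Lib.TC.D.HeChain.S1_C30
import Cfsg.Agent.Lib.TC.D.HeChain.S1_C31
import Cfsg.Agent.Lib.TC.D.HeChain.S1_C32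
import Cfsg.Agent.Lib.TC.D.HeChain.S1_C33
import Cfsg.Agent.Lib.TC.D.HeChain.S1_C34
import Cfsg.Agent.Lib.TC.D.HeChain.S1_C35
import Cfsg.Agent.Lib.TC.D.HeChain.S1_C36
import Cfsg.Agent.Lib.TC.D.HeChain.S1_C37
import Cfsg.Agent.Lib.TC.D.HeChain.S1_C38
import Cfsg.Agent.Lib.TC.D.HeChain.S1_C39
import Cfsg.Agent.Lib.TC.D.HeChain.S1_C40
import Cfsg.Agent.Lib.TC.D.HeChain.S1_C41
import Cfsg.Agent.Lib.TC.D.HeChain.S1_C42
import Cfsg.Agent.Lib.TC.D.HeChain.S1_C43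
import Cfsg.Agent.Lib.TC.D.HeChain.S1_C44
import Cfsg.Agent.Lib.TC.D.HeChain.S1_C45
import Cfsg.Agent.Lib.TC.D.HeChain.S1_C46
import Cfsg.Agent.Lib.TC.D.HeChain.S1_C47
import Cfsg.Agent.Lib.TC.D.HeChain.S1_C48
import Cfsg.Agent.Lib.TC.D.HeChain.S1_C49
import Cfsg.Agent.Lib.TC.D.HeChain.S1_C50
import Cfsg.Agent.Lib.TC.D.HeChain.S1_C51
import Cfsg.Agent.Lib.TC.D.HeChain.S1_C52
import Cfsg.Agent.Lib.TC.D.HeChain.S1_C53
import Cfsg.Agent.Lib.TC.D.HeChain.S1_C54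
import Cfsg.Agent.Lib.TC.D.HeChain.S1_C55
import Cfsg.Agent.Lib.TC.D.HeChain.S1_C56
import Cfsg.Agent.Lib.TC.D.HeChain.S1_C57
import Cfsg.Agent.Lib.TC.D.HeChain.S1_F0
import Cfsg.Agent.Lib.TC.D.HeChain.S1_F1
import Cfsg.Agent.Lib.TC.D.HeChain.S1_F2
import Cfsg.Agent.Lib.TC.D.HeChain.S1_F3
import Cfsg.Agent.Lib.TC.D.HeChain.S1_F4
import Cfsg.Agent.Lib.TC.D.HeChain.S1_F5
import Cfsg.Agent.Lib.TC.D.HeChain.S1_F6
import Cfsg.Agent.Lib.TC.D.HeChain.S1_F7
import Cfsg.Agent.Lib.TC.D.HeChain.S1_F8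

namespace Cfsg.Agent.Lib.TC.D.HeChain.S1

open Cfsg.Agent.Lib.TC.Core Cfsg.Agent.Lib.TC.Enc Cfsg.Agent.Lib.TC.Pres Cfsg.Agent.Lib.TC.Perm Cfsg.Agent.Lib.TC.Main Cfsg.Agent.Lib.TC.Chain

set_option maxRecDepth 100000

open Cfsg.Agent.Lib.TC.D.HeChain.S1_Tab Cfsg.Agent.Lib.TC.G.He

theorem allC0 : cert.chkRange 0 5002 = true := Cfsg.Agent.Lib.TC.D.HeChain.S1_C0.ok
theorem allC1 : cert.chkRange 0 10038 = true := Cert.chkRange_join (lo := 0) (a := 5002) (b := 5036) _ allC0 Cfsg.Agent.Lib.TC.D.HeChain.S1_C1.ok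
theorem allC2 : cert.chkRange 0 15059 = true := Cert.chkRange_join (lo := 0) (a := 10038) (b := 5021) _ allC1 Cfsg.Agent.Lib.TC.D.HeChain.S1_C2.ok
theorem allC3 : cert.chkRange 0 20009 = true := Cert.chkRange_join (lo := 0) (a := 15059) (b := 4950) _ allC2 Cfsg.Agent.Lib.TC.D.HeChain.S1_C3.ok
theorem allC4 : cert.chkRange 0 24958 = true := Cert.chkRange_join (lo := 0) (a := 20009) (b := 4949) _ allC3 Cfsg.Agent.Lib.TC.D.HeChain.S1_C4.ok
theorem allC5 : cert.chkRange 0 29810 = true := Cert.chkRange_join (lo := 0) (a := 24958) (b := 4852) _ allC4 Cfsg.Agent.Lib.TC.D.HeChain.S1_C5.ok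
theorem allC6 : cert.chkRange 0 34659 = true := Cert.chkRange_join (lo := 0) (a := 29810) (b := 4849) _ allC5 Cfsg.Agent.Lib.TC.D.HeChain.S1_C6.ok
theorem allC7 : cert.chkRange 0 39485 = true := Cert.chkRange_join (lo := 0) (a := 34659) (b := 4826) _ allC6 Cfsg.Agent.Lib.TC.D.HeChain.S1_C7.ok
theorem allC8 : cert.chkRange 0 44239 = true := Cert.chkRange_join (lo := 0) (a := 39485) (b := 4754) _ allC7 Cfsg.Agent.Lib.TC.D.HeChain.S1_C8.ok
theorem allC9 : cert.chkRange 0 49016 = true := Cert.chkRange_join (lo := 0) (a := 44239) (b := 4777) _ allC8 Cfsg.Agent.Lib.TC.D.HeChain.S1_C9.ok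
theorem allC10 : cert.chkRange 0 53714 = true := Cert.chkRange_join (lo := 0) (a := 49016) (b := 4698) _ allC9 Cfsg.Agent.Lib.TC.D.HeChain.S1_C10.ok
theorem allC11 : cert.chkRange 0 58487 = true := Cert.chkRange_join (lo := 0) (a := 53714) (b := 4773) _ allC10 Cfsg.Agent.Lib.TC.D.HeChain.S1_C11.ok
theorem allC12 : cert.chkRange 0 63207 = true := Cert.chkRange_join (lo := 0) (a := 58487) (b := 4720) _ allC11 Cfsg.Agent.Lib.TC.D.HeChain.S1_C12.ok
theorem allC13 : cert.chkRange 0 67904 = true := Cert.chkRange_join (lo := 0) (a := 63207) (b := 4697) _ allC12 Cfsg.Agent.Lib.TC.D.HeChain.S1_C13.ok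
theorem allC14 : cert.chkRange 0 72603 = true := Cert.chkRange_join (lo := 0) (a := 67904) (b := 4699) _ allC13 Cfsg.Agent.Lib.TC.D.HeChain.S1_C14.ok
theorem allC15 : cert.chkRange 0 77316 = true := Cert.chkRange_join (lo := 0) (a := 72603) (b := 4713) _ allC14 Cfsg.Agent.Lib.TC.D.HeChain.S1_C15.ok
theorem allC16 : cert.chkRange 0 82082 = true := Cert.chkRange_join (lo := 0) (a := 77316) (b := 4766) _ allC15 Cfsg.Agent.Lib.TC.D.HeChain.S1_C16.ok
theorem allC17 : cert.chkRange 0 86747 = true := Cert.chkRange_join (lo := 0) (a := 82082) (b := 4665) _ allC16 Cfsg.Agent.Lib.TC.D.HeChain.S1_C17.ok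
theorem allC18 : cert.chkRange 0 91442 = true := Cert.chkRange_join (lo := 0) (a := 86747) (b := 4695) _ allC17 Cfsg.Agent.Lib.TC.D.HeChain.S1_C18.ok
theorem allC19 : cert.chkRange 0 96114 = true := Cert.chkRange_join (lo := 0) (a := 91442) (b := 4672) _ allC18 Cfsg.Agent.Lib.TC.D.HeChain.S1_C19.ok
theorem allC20 : cert.chkRange 0 100855 = true := Cert.chkRange_join (lo := 0) (a := 96114) (b := 4741) _ allC19 Cfsg.Agent.Lib.TC.D.HeChain.S1_C20.ok
theorem allC21 : cert.chkRange 0 105562 = true := Cert.chkRange_join (lo := 0) (a := 100855) (b := 4707) _ allC20 Cfsg.Agent.Lib.TC.D.HeChain.S1_C21.ok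
theorem allC22 : cert.chkRange 0 110319 = true := Cert.chkRange_join (lo := 0) (a := 105562) (b := 4757) _ allC21 Cfsg.Agent.Lib.TC.D.HeChain.S1_C22.ok
theorem allC23 : cert.chkRange 0 115118 = true := Cert.chkRange_join (lo := 0) (a := 110319) (b := 4799) _ allC22 Cfsg.Agent.Lib.TC.D.HeChain.S1_C23.ok
theorem allC24 : cert.chkRange 0 119919 = true := Cert.chkRange_join (lo := 0) (a := 115118) (b := 4801) _ allC23 Cfsg.Agent.Lib.TC.D.HeChain.S1_C24.ok
theorem allC25 : cert.chkRange 0 124628 = true := Cert.chkRange_join (lo := 0) (a := 119919) (b := 4709) _ allC24 Cfsg.Agent.Lib.TC.D.HeChain.S1_C25.ok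
theorem allC26 : cert.chkRange 0 129296 = true := Cert.chkRange_join (lo := 0) (a := 124628) (b := 4668) _ allC25 Cfsg.Agent.Lib.TC.D.HeChain.S1_C26.ok
theorem allC27 : cert.chkRange 0 133977 = true := Cert.chkRange_join (lo := 0) (a := 129296) (b := 4681) _ allC26 Cfsg.Agent.Lib.TC.D.HeChain.S1_C27.ok
theorem allC28 : cert.chkRange 0 138701 = true := Cert.chkRange_join (lo := 0) (a := 133977) (b := 4724) _ allC27 Cfsg.Agent.Lib.TC.D.HeChain.S1_C28.ok
theorem allC29 : cert.chkRange 0 143423 = true := Cert.chkRange_join (lo := 0) (a := 138701) (b := 4722) _ allC28 Cfsg.Agent.Lib.TC.D.HeChain.S1_C29.ok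
theorem allC30 : cert.chkRange 0 148141 = true := Cert.chkRange_join (lo := 0) (a := 143423) (b := 4718) _ allC29 Cfsg.Agent.Lib.TC.D.HeChain.S1_C30.ok
theorem allC31 : cert.chkRange 0 152833 = true := Cert.chkRange_join (lo := 0) (a := 148141) (b := 4692) _ allC30 Cfsg.Agent.Lib.TC.D.HeChain.S1_C31.ok
theorem allC32 : cert.chkRange 0 157492 = true := Cert.chkRange_join (lo := 0) (a := 152833) (b := 4659) _ allC31 Cfsg.Agent.Lib.TC.D.HeChain.S1_C32.ok
theorem allC33 : cert.chkRange 0 162141 = true := Cert.chkRange_join (lo := 0) (a := 157492) (b := 4649) _ allC32 Cfsg.Agent.Lib.TC.D.HeChain.S1_C33.ok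
theorem allC34 : cert.chkRange 0 166766 = true := Cert.chkRange_join (lo := 0) (a := 162141) (b := 4625) _ allC33 Cfsg.Agent.Lib.TC.D.HeChain.S1_C34.ok
theorem allC35 : cert.chkRange 0 171374 = true := Cert.chkRange_join (lo := 0) (a := 166766) (b := 4608) _ allC34 Cfsg.Agent.Lib.TC.D.HeChain.S1_C35.ok
theorem allC36 : cert.chkRange 0 175923 = true := Cert.chkRange_join (lo := 0) (a := 171374) (b := 4549) _ allC35 Cfsg.Agent.Lib.TC.D.HeChain.S1_C36.ok
theorem allC37 : cert.chkRange 0 180522 = true := Cert.chkRange_join (lo := 0) (a := 175923) (b := 4599) _ allC36 Cfsg.Agent.Lib.TC.D.HeChain.S1_C37.ok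
theorem allC38 : cert.chkRange 0 185075 = true := Cert.chkRange_join (lo := 0) (a := 180522) (b := 4553) _ allC37 Cfsg.Agent.Lib.TC.D.HeChain.S1_C38.ok
theorem allC39 : cert.chkRange 0 189602 = true := Cert.chkRange_join (lo := 0) (a := 185075) (b := 4527) _ allC38 Cfsg.Agent.Lib.TC.D.HeChain.S1_C39.ok
theorem allC40 : cert.chkRange 0 194140 = true := Cert.chkRange_join (lo := 0) (a := 189602) (b := 4538) _ allC39 Cfsg.Agent.Lib.TC.D.HeChain.S1_C40.ok
theorem allC41 : cert.chkRange 0 198635 = true := Cert.chkRange_join (lo := 0) (a := 194140) (b := 4495) _ allC40 Cfsg.Agent.Lib.TC.D.HeChain.S1_C41.ok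
theorem allC42 : cert.chkRange 0 203134 = true := Cert.chkRange_join (lo := 0) (a := 198635) (b := 4499) _ allC41 Cfsg.Agent.Lib.TC.D.HeChain.S1_C42.ok
theorem allC43 : cert.chkRange 0 207621 = true := Cert.chkRange_join (lo := 0) (a := 203134) (b := 4487) _ allC42 Cfsg.Agent.Lib.TC.D.HeChain.S1_C43.ok
theorem allC44 : cert.chkRange 0 212086 = true := Cert.chkRange_join (lo := 0) (a := 207621) (b := 4465) _ allC43 Cfsg.Agent.Lib.TC.D.HeChain.S1_C44.ok
theorem allC45 : cert.chkRange 0 216533 = true := Cert.chkRange_join (lo := 0) (a := 212086) (b := 4447) _ allC44 Cfsg.Agent.Lib.TC.D.HeChain.S1_C45.ok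
theorem allC46 : cert.chkRange 0 220980 = true := Cert.chkRange_join (lo := 0) (a := 216533) (b := 4447) _ allC45 Cfsg.Agent.Lib.TC.D.HeChain.S1_C46.ok
theorem allC47 : cert.chkRange 0 225431 = true := Cert.chkRange_join (lo := 0) (a := 220980) (b := 4451) _ allC46 Cfsg.Agent.Lib.TC.D.HeChain.S1_C47.ok
theorem allC48 : cert.chkRange 0 229876 = true := Cert.chkRange_join (lo := 0) (a := 225431) (b := 4445) _ allC47 Cfsg.Agent.Lib.TC.D.HeChain.S1_C48.ok
theorem allC49 : cert.chkRange 0 234324 = true := Cert.chkRange_join (lo := 0) (a := 229876) (b := 4448) _ allC48 Cfsg.Agent.Lib.TC.D.HeChain.S1_C49.ok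
theorem allC50 : cert.chkRange 0 238774 = true := Cert.chkRange_join (lo := 0) (a := 234324) (b := 4450) _ allC49 Cfsg.Agent.Lib.TC.D.HeChain.S1_C50.ok
theorem allC51 : cert.chkRange 0 243246 = true := Cert.chkRange_join (lo := 0) (a := 238774) (b := 4472) _ allC50 Cfsg.Agent.Lib.TC.D.HeChain.S1_C51.ok
theorem allC52 : cert.chkRange 0 247700 = true := Cert.chkRange_join (lo := 0) (a := 243246) (b := 4454) _ allC51 Cfsg.Agent.Lib.TC.D.HeChain.S1_C52.ok
theorem allC53 : cert.chkRange 0 252177 = true := Cert.chkRange_join (lo := 0) (a := 247700) (b := 4477) _ allC52 Cfsg.Agent.Lib.TC.D.HeChain.S1_C53.ok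
theorem allC54 : cert.chkRange 0 256662 = true := Cert.chkRange_join (lo := 0) (a := 252177) (b := 4485) _ allC53 Cfsg.Agent.Lib.TC.D.HeChain.S1_C54.ok
theorem allC55 : cert.chkRange 0 261169 = true := Cert.chkRange_join (lo := 0) (a := 256662) (b := 4507) _ allC54 Cfsg.Agent.Lib.TC.D.HeChain.S1_C55.ok
theorem allC56 : cert.chkRange 0 265741 = true := Cert.chkRange_join (lo := 0) (a := 261169) (b := 4572) _ allC55 Cfsg.Agent.Lib.TC.D.HeChain.S1_C56.ok
theorem allC57 : cert.chkRange 0 269157 = true := Cert.chkRange_join (lo := 0) (a := 265741) (b := 3416) _ allC56 Cfsg.Agent.Lib.TC.D.HeChain.S1_C57.ok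

theorem allF0 : cert.chkFinal 0 30000 = true := Cfsg.Agent.Lib.TC.D.HeChain.S1_F0.ok
theorem allF1 : cert.chkFinal 0 60000 = true := Cert.chkFinal_join (lo := 0) (a := 30000) (b := 30000) _ allF0 Cfsg.Agent.Lib.TC.D.HeChain.S1_F1.ok
theorem allF2 : cert.chkFinal 0 90000 = true := Cert.chkFinal_join (lo := 0) (a := 60000) (b := 30000) _ allF1 Cfsg.Agent.Lib.TC.D.HeChain.S1_F2.ok
theorem allF3 : cert.chkFinal 0 120000 = true := Cert.chkFinal_join (lo := 0) (a := 90000) (b := 30000) _ allF2 Cfsg.Agent.Lib.TC.D.HeChain.S1_F3.ok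
theorem allF4 : cert.chkFinal 0 150000 = true := Cert.chkFinal_join (lo := 0) (a := 120000) (b := 30000) _ allF3 Cfsg.Agent.Lib.TC.D.HeChain.S1_F4.ok
theorem allF5 : cert.chkFinal 0 180000 = true := Cert.chkFinal_join (lo := 0) (a := 150000) (b := 30000) _ allF4 Cfsg.Agent.Lib.TC.D.HeChain.S1_F5.ok
theorem allF6 : cert.chkFinal 0 210000 = true := Cert.chkFinal_join (lo := 0) (a := 180000) (b := 30000) _ allF5 Cfsg.Agent.Lib.TC.D.HeChain.S1_F6.ok
theorem allF7 : cert.chkFinal 0 240000 = true := Cert.chkFinal_join (lo := 0) (a := 210000) (b := 30000) _ allF6 Cfsg.Agent.Lib.TC.D.HeChain.S1_F7.ok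
theorem allF8 : cert.chkFinal 0 269157 = true := Cert.chkFinal_join (lo := 0) (a := 240000) (b := 29157) _ allF7 Cfsg.Agent.Lib.TC.D.HeChain.S1_F8.ok

theorem hFinal : cert.chkFinal 0 269157 = true := allF8

theorem h0 : cert.eLvl (cert.par (cert.find cert.MAX cert.D 0)) = cert.MAX := by decide +kernel

theorem hcount : cert.countRoots cert.N = 266560 := by
  rw [countRoots_eq_acc]
  decide +kernel

theorem hchecked : Checked cert where
  hN := by decide
  hC := allC57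
  hF := hFinal
  h0 := h0

theorem stage : Lt (K.E Rel) ls' ≤ Lt (K.E Rel) ls ∧
    Nat.card (Lt (K.E Rel) ls) = Nat.card (Lt (K.E Rel) ls') * (Lt (K.E Rel) ls').relIndex (Lt (K.E Rel) ls) ∧
    (Lt (K.E Rel) ls').relIndex (Lt (K.E Rel) ls) ≠ 0 ∧ (Lt (K.E Rel) ls').relIndex (Lt (K.E Rel) ls) ≤ 266560 :=
  stage_of_cols valid hrels ls ls' inv' rels' subs' witT.get cert 266560
    (by decide +kernel) (by decide) (by decide +kernel) (by decide +kernel) (by decide +kernel) hchecked hcount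

end Cfsg.Agent.Lib.TC.D.HeChain.S1
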