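import Cfsg.Agent.Lib.TC.G.He
import Cfsg.Agent.Lib.TC.Chain
import Cfsg.Agent.Lib.TC.D.HeChain.S3_T0

namespace Cfsg.Agent.Lib.TC.D.HeChain.S3_Tab

open Cfsg.Agent.Lib.TC.Core Cfsg.Agent.Lib.TC.Enc Cfsg.Agent.Lib.TC.Pres Cfsg.Agent.Lib.TC.Perm Cfsg.Agent.Lib.TC.Main Cfsg.Agent.Lib.TC.Chain

set_option maxRecDepth 100000

/-- The chunks of the certificate. -/
noncomputable def ctree : Tr Nat := Cfsg.Agent.Lib.TC.D.HeChain.S3_T0.tree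

/-- The relator rotations. -/
noncomputable def rotT : Tr (List Nat) := (Tr.node (Tr.node (Tr.node (Tr.node (Tr.node (Tr.node (Tr.leaf [])
 (Tr.leaf [2,1,0,3,2,1,0,2,1,0]))
 (Tr.node (Tr.leaf [2,3,2,3])
 (Tr.leaf [0,3,2,1,0,2,1,0,2,1])))
 (Tr.node (Tr.node (Tr.leaf [0,2,0,2])
 (Tr.leaf [0,3,2,1,0,2,1,0,2,1]))
 (Tr.node (Tr.leaf [0,2,1,0,2,1,0,3,2,1])
 (Tr.leaf [0,3,2,1,0,2,1,0,2,1]))))
 (Tr.node (Tr.node (Tr.node (Tr.leaf [3,3])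
 (Tr.leaf [0,3,2,1,0,2,1,0,2,1]))
 (Tr.node (Tr.leaf [2,1,0,2,1,0,2,1,0,3])
 (Tr.leaf [0,3,2,1,0,2,1,0,2,1])))
 (Tr.node (Tr.node (Tr.leaf [1,2,1,2,1,2])
 (Tr.leaf [0,3,2,1,0,2,1,0,2,1]))
 (Tr.node (Tr.leaf [1,0,2,1,0,3,2,1,0,2])
 (Tr.leaf [0,3,2,1,0,2,1,0,2,1])))))
 (Tr.node (Tr.node (Tr.node (Tr.node (Tr.leaf [1,1])
 (Tr.leaf [1,0,3,2,1,0,2,1,0,2]))
 (Tr.node (Tr.leaf [3,2,1,0,2,1,0,2,1,0])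
 (Tr.leaf [0,3,2,1,0,2,1,0,2,1])))
 (Tr.node (Tr.node (Tr.leaf [0,3,0,3])
 (Tr.leaf [0,3,2,1,0,2,1,0,2,1]))
 (Tr.node (Tr.leaf [2,1,0,2,1,0,3,2,1,0])
 (Tr.leaf [0,3,2,1,0,2,1,0,2,1]))))
 (Tr.node (Tr.node (Tr.node (Tr.leaf [0,1,0,1,0,1,0,1])
 (Tr.leaf [0,3,2,1,0,2,1,0,2,1]))
 (Tr.node (Tr.leaf [1,0,2,1,0,2,1,0,3,2])
 (Tr.leaf [0,3,2,1,0,2,1,0,2,1])))
 (Tr.node (Tr.node (Tr.leaf [1,3,1,3])
 (Tr.leaf [0,3,2,1,0,2,1,0,2,1]))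
 (Tr.node (Tr.leaf [0,2,1,0,3,2,1,0,2,1])
 (Tr.leaf [0,3,2,1,0,2,1,0,2,1]))))))
 (Tr.node (Tr.node (Tr.node (Tr.node (Tr.node (Tr.leaf [0,0])
 (Tr.leaf [2,3,0,1,2,0,1,2,0,1]))
 (Tr.node (Tr.leaf [0,1,2,0,1,2,0,1,2,3])
 (Tr.leaf [0,3,2,1,0,2,1,0,2,1])))
 (Tr.node (Tr.node (Tr.leaf [3,0,3,0])
 (Tr.leaf [0,3,2,1,0,2,1,0,2,1]))
 (Tr.node (Tr.leaf [1,2,0,1,2,3,0,1,2,0])
 (Tr.leaf [0,3,2,1,0,2,1,0,2,1]))))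
 (Tr.node (Tr.node (Tr.node (Tr.leaf [1,0,1,0,1,0,1,0])
 (Tr.leaf [0,3,2,1,0,2,1,0,2,1]))
 (Tr.node (Tr.leaf [2,0,1,2,0,1,2,3,0,1])
 (Tr.leaf [0,3,2,1,0,2,1,0,2,1])))
 (Tr.node (Tr.node (Tr.leaf [3,1,3,1])
 (Tr.leaf [0,3,2,1,0,2,1,0,2,1]))
 (Tr.node (Tr.leaf [0,1,2,3,0,1,2,0,1,2])
 (Tr.leaf [0,3,2,1,0,2,1,0,2,1])))))
 (Tr.node (Tr.node (Tr.node (Tr.node (Tr.leaf [2,2])
 (Tr.leaf [3,0,1,2,0,1,2,0,1,2]))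
 (Tr.node (Tr.leaf [1,2,0,1,2,0,1,2,3,0])
 (Tr.leaf [0,3,2,1,0,2,1,0,2,1])))
 (Tr.node (Tr.node (Tr.leaf [2,1,2,1,2,1])
 (Tr.leaf [0,3,2,1,0,2,1,0,2,1]))
 (Tr.node (Tr.leaf [2,0,1,2,3,0,1,2,0,1])
 (Tr.leaf [0,3,2,1,0,2,1,0,2,1]))))
 (Tr.node (Tr.node (Tr.node (Tr.leaf [2,0,2,0])
 (Tr.leaf [0,3,2,1,0,2,1,0,2,1]))
 (Tr.node (Tr.leaf [0,1,2,0,1,2,3,0,1,2])
 (Tr.leaf [0,3,2,1,0,2,1,0,2,1])))
 (Tr.node (Tr.node (Tr.leaf [3,2,3,2])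
 (Tr.leaf [0,3,2,1,0,2,1,0,2,1]))
 (Tr.node (Tr.leaf [1,2,3,0,1,2,0,1,2,0])
 (Tr.leaf [0,3,2,1,0,2,1,0,2,1])))))))

/-- The subgroup rotations. -/
noncomputable def srotT : Tr (List Nat × Nat × List Nat) := (Tr.node (Tr.node (Tr.leaf ([],0,[]))
 (Tr.leaf ([],3,[])))
 (Tr.node (Tr.leaf ([],2,[]))
 (Tr.leaf ([],3,[]))))

/-- The certificate. -/
noncomputable def cert : Cert :=
  mkCert 4 6 24 2 37 40 4 15 79 14 56 73 16383 131071 5 3 31 7 8 6 7 ctree.get rotT.get srotT.get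

/-- The witnesses of the rotations. -/
noncomputable def witT : Tr (Nat × Nat × Bool) := (Tr.node (Tr.node (Tr.node (Tr.node (Tr.node (Tr.node (Tr.leaf (0,0,false))
 (Tr.leaf (10,7,true)))
 (Tr.node (Tr.leaf (8,1,false))
 (Tr.leaf (10,9,true))))
 (Tr.node (Tr.node (Tr.leaf (2,1,false))
 (Tr.leaf (10,9,true)))
 (Tr.node (Tr.leaf (10,3,true))
 (Tr.leaf (10,9,true)))))
 (Tr.node (Tr.node (Tr.node (Tr.leaf (9,0,false))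
 (Tr.leaf (10,9,true)))
 (Tr.node (Tr.leaf (10,1,true))
 (Tr.leaf (10,9,true))))
 (Tr.node (Tr.node (Tr.leaf (5,1,false))
 (Tr.leaf (10,9,true)))
 (Tr.node (Tr.leaf (10,5,true))
 (Tr.leaf (10,9,true))))))
 (Tr.node (Tr.node (Tr.node (Tr.node (Tr.leaf (4,0,false))
 (Tr.leaf (10,8,true)))
 (Tr.node (Tr.leaf (10,0,true))
 (Tr.leaf (10,9,true))))
 (Tr.node (Tr.node (Tr.leaf (3,1,false))
 (Tr.leaf (10,9,true)))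
 (Tr.node (Tr.leaf (10,4,true))
 (Tr.leaf (10,9,true)))))
 (Tr.node (Tr.node (Tr.node (Tr.leaf (1,1,false))
 (Tr.leaf (10,9,true)))
 (Tr.node (Tr.leaf (10,2,true))
 (Tr.leaf (10,9,true))))
 (Tr.node (Tr.node (Tr.leaf (6,1,false))
 (Tr.leaf (10,9,true)))
 (Tr.node (Tr.leaf (10,6,true))
 (Tr.leaf (10,9,true)))))))
 (Tr.node (Tr.node (Tr.node (Tr.node (Tr.node (Tr.leaf (0,0,false))
 (Tr.leaf (10,8,false)))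
 (Tr.node (Tr.leaf (10,0,false))
 (Tr.leaf (10,9,true))))
 (Tr.node (Tr.node (Tr.leaf (3,0,false))
 (Tr.leaf (10,9,true)))
 (Tr.node (Tr.leaf (10,4,false))
 (Tr.leaf (10,9,true)))))
 (Tr.node (Tr.node (Tr.node (Tr.leaf (1,0,false))
 (Tr.leaf (10,9,true)))
 (Tr.node (Tr.leaf (10,2,false))
 (Tr.leaf (10,9,true))))
 (Tr.node (Tr.node (Tr.leaf (6,0,false))
 (Tr.leaf (10,9,true)))
 (Tr.node (Tr.leaf (10,6,false))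
 (Tr.leaf (10,9,true))))))
 (Tr.node (Tr.node (Tr.node (Tr.node (Tr.leaf (7,0,false))
 (Tr.leaf (10,9,false)))
 (Tr.node (Tr.leaf (10,1,false))
 (Tr.leaf (10,9,true))))
 (Tr.node (Tr.node (Tr.leaf (5,0,false))
 (Tr.leaf (10,9,true)))
 (Tr.node (Tr.leaf (10,5,false))
 (Tr.leaf (10,9,true)))))
 (Tr.node (Tr.node (Tr.node (Tr.leaf (2,0,false))
 (Tr.leaf (10,9,true)))
 (Tr.node (Tr.leaf (10,3,false))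
 (Tr.leaf (10,9,true))))
 (Tr.node (Tr.node (Tr.leaf (8,0,false))
 (Tr.leaf (10,9,true)))
 (Tr.node (Tr.leaf (10,7,false))
 (Tr.leaf (10,9,true))))))))

/-- The letters. -/
def ls : List Nat := [0,1,2,4]

/-- The smaller letters. -/
def ls' : List Nat := [0,2,4]

/-- The inverses. -/
def inv' (c : Nat) : Nat := [0,1,2,3].getD c 0

/-- The relators. -/
def rels' : List (List Nat) :=
  [[0,0],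
   [1,0,1,0,1,0,1,0],
   [2,0,2,0],
   [3,0,3,0],
   [1,1],
   [2,1,2,1,2,1],
   [3,1,3,1],
   [2,2],
   [3,2,3,2],
   [3,3],
   [0,1,2,0,1,2,0,1,2,3]]

/-- The subgroup. -/
def subs' : List (List Nat) :=
  [[0],[2],[3]]


end Cfsg.Agent.Lib.TC.D.HeChain.S3_Tab
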