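import Cfsg.Agent.Lib.TC.Enc

namespace Cfsg.Agent.Lib.TC.D.HeChain.X_T0

open Cfsg.Agent.Lib.TC.Enc

set_option maxRecDepth 100000

/-- A part of a table. -/
noncomputable def tree : Tr Nat :=
  (Tr.leaf (nat_lit 0x88354d6aaa95154000cc65540ca70019800cc10541b0006600330019800cc006600330252910a818000cc0066003339119a8b810c5aa2fc00c5120e07000cc006611910019800cc006741dd8261d0c0c05000cc4ba000330019800ce0038054006600330019800cc006600330019b005a0b0b62c439f01140803800cc00660033401a85f546ea836c006630de0602800cc0066404685a289c404d000cce13202a604018099000f40c400660033282b92163b840022102008000019007340312014800830031001040040))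

end Cfsg.Agent.Lib.TC.D.HeChain.X_T0
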