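import Cfsg.Agent.Lib.TC.G.He
import Cfsg.Agent.Lib.TC.D.HeSp44.Tab
import Cfsg.Agent.Lib.TC.Chain
import Cfsg.Agent.Lib.TC.D.HeChain.X_T0

namespace Cfsg.Agent.Lib.TC.D.HeChain.X_Tab

open Cfsg.Agent.Lib.TC.Core Cfsg.Agent.Lib.TC.Enc Cfsg.Agent.Lib.TC.Pres Cfsg.Agent.Lib.TC.Perm Cfsg.Agent.Lib.TC.Main Cfsg.Agent.Lib.TC.Chain

set_option maxRecDepth 100000

/-- The chunks of the certificate. -/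
noncomputable def ctree : Tr Nat := Cfsg.Agent.Lib.TC.D.HeChain.X_T0.tree

/-- The relator rotations. -/
noncomputable def rotT : Tr (List Nat) := (Tr.node (Tr.node (Tr.node (Tr.node (Tr.node (Tr.node (Tr.node (Tr.leaf [])
 (Tr.leaf [4,5,6,5,6]))
 (Tr.node (Tr.leaf [5,1,5,1])
 (Tr.leaf [3,2,3,2,3,0,2,3,2,3,2])))
 (Tr.node (Tr.node (Tr.leaf [2,0,2,0])
 (Tr.leaf [1,2,4,0,1,2,0,1,2,0]))
 (Tr.node (Tr.leaf [6,3,6,3,6,3])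
 (Tr.leaf [3,2,6,5,3,2,6,5,3,2,6,5,3,2,6,5]))))
 (Tr.node (Tr.node (Tr.node (Tr.leaf [5,6,3])
 (Tr.leaf [0,1,2,0,1,2,4,0,1,2]))
 (Tr.node (Tr.leaf [5,2,5,2])
 (Tr.leaf [3,0,2,3,2,3,2,3,2,3,2])))
 (Tr.node (Tr.node (Tr.leaf [6,0,6,0])
 (Tr.leaf [3,2,3,2,3,2,3,2,3,0,2]))
 (Tr.node (Tr.leaf [5,6,5,6,4])
 (Tr.leaf [6,2,3,5,6,2,3,5,6,2,3,5,6,2,3,5])))))
 (Tr.node (Tr.node (Tr.node (Tr.node (Tr.leaf [3,3])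
 (Tr.leaf [1,2,0,1,2,0,1,2,4,0]))
 (Tr.node (Tr.leaf [3,2,3,2,3,2,3,2,3,2,3,2,3,2,3,2,3,2,3,2])
 (Tr.leaf [3,2,3,0,2,3,2,3,2,3,2])))
 (Tr.node (Tr.node (Tr.leaf [4,0,4,0])
 (Tr.leaf [4,0,1,2,0,1,2,0,1,2]))
 (Tr.node (Tr.leaf [6,4,6,4])
 (Tr.leaf [6,2,3,5,6,2,3,5,6,2,3,5,6,2,3,5]))))
 (Tr.node (Tr.node (Tr.node (Tr.leaf [3,5,6])
 (Tr.leaf [2,0,1,2,4,0,1,2,0,1]))
 (Tr.node (Tr.leaf [4,3,4,3,4,3])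
 (Tr.leaf [6,5,3,2,6,5,3,2,6,5,3,2,6,5,3,2])))
 (Tr.node (Tr.node (Tr.leaf [3,1,3,1])
 (Tr.leaf [3,2,3,2,3,2,3,0,2,3,2]))
 (Tr.node (Tr.leaf [5,6,4,5,6])
 (Tr.leaf [6,2,3,5,6,2,3,5,6,2,3,5,6,2,3,5]))))))
 (Tr.node (Tr.node (Tr.node (Tr.node (Tr.node (Tr.leaf [1,1])
 (Tr.leaf [0,1,2,0,1,2,0,1,2,4]))
 (Tr.node (Tr.leaf [6,1,6,1])
 (Tr.leaf [2,3,2,3,0,2,3,2,3,2,3])))
 (Tr.node (Tr.node (Tr.leaf [3,0,3,0])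
 (Tr.leaf [2,4,0,1,2,0,1,2,0,1]))
 (Tr.node (Tr.leaf [5,4,5,4])
 (Tr.leaf [2,6,5,3,2,6,5,3,2,6,5,3,2,6,5,3]))))
 (Tr.node (Tr.node (Tr.node (Tr.leaf [6,3,5])
 (Tr.leaf [1,2,0,1,2,4,0,1,2,0]))
 (Tr.node (Tr.leaf [6,2,6,2])
 (Tr.leaf [0,2,3,2,3,2,3,2,3,2,3])))
 (Tr.node (Tr.node (Tr.leaf [2,1,2,1,2,1])
 (Tr.leaf [2,3,2,3,2,3,2,3,0,2,3]))
 (Tr.node (Tr.leaf [6,5,6,4,5])
 (Tr.leaf [6,2,3,5,6,2,3,5,6,2,3,5,6,2,3,5])))))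
 (Tr.node (Tr.node (Tr.node (Tr.node (Tr.leaf [5,5])
 (Tr.leaf [2,0,1,2,0,1,2,4,0,1]))
 (Tr.node (Tr.leaf [4,2,4,2])
 (Tr.leaf [2,3,0,2,3,2,3,2,3,2,3])))
 (Tr.node (Tr.node (Tr.leaf [5,0,5,0])
 (Tr.leaf [2,3,2,3,2,3,2,3,2,3,0]))
 (Tr.node (Tr.leaf [6,5,6,5,6,5,6,5])
 (Tr.leaf [6,2,3,5,6,2,3,5,6,2,3,5,6,2,3,5]))))
 (Tr.node (Tr.node (Tr.node (Tr.leaf [1,0,1,0,1,0,1,0])
 (Tr.leaf [0,1,2,4,0,1,2,0,1,2]))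
 (Tr.node (Tr.leaf [5,3,5,3,5,3])
 (Tr.leaf [5,3,2,6,5,3,2,6,5,3,2,6,5,3,2,6])))
 (Tr.node (Tr.node (Tr.leaf [4,1,4,1])
 (Tr.leaf [2,3,2,3,2,3,0,2,3,2,3]))
 (Tr.node (Tr.leaf [6,4,5,6,5])
 (Tr.leaf [6,2,3,5,6,2,3,5,6,2,3,5,6,2,3,5])))))))
 (Tr.node (Tr.node (Tr.node (Tr.node (Tr.node (Tr.node (Tr.leaf [0,0])
 (Tr.leaf [5,4,6,5,6]))
 (Tr.node (Tr.leaf [1,5,1,5])
 (Tr.leaf [3,2,3,2,3,2,0,3,2,3,2])))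
 (Tr.node (Tr.node (Tr.leaf [0,2,0,2])
 (Tr.leaf [2,1,0,4,2,1,0,2,1,0]))
 (Tr.node (Tr.leaf [3,6,3,6,3,6])
 (Tr.leaf [5,6,2,3,5,6,2,3,5,6,2,3,5,6,2,3]))))
 (Tr.node (Tr.node (Tr.node (Tr.leaf [3,6,5])
 (Tr.leaf [0,2,1,0,2,1,0,4,2,1]))
 (Tr.node (Tr.leaf [2,5,2,5])
 (Tr.leaf [3,2,0,3,2,3,2,3,2,3,2])))
 (Tr.node (Tr.node (Tr.leaf [0,6,0,6])
 (Tr.leaf [3,2,3,2,3,2,3,2,3,2,0]))
 (Tr.node (Tr.leaf [4,6,5,6,5])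
 (Tr.leaf [6,2,3,5,6,2,3,5,6,2,3,5,6,2,3,5])))))
 (Tr.node (Tr.node (Tr.node (Tr.node (Tr.leaf [4,4])
 (Tr.leaf [2,1,0,2,1,0,2,1,0,4]))
 (Tr.node (Tr.leaf [2,3,2,3,2,3,2,3,2,3,2,3,2,3,2,3,2,3,2,3])
 (Tr.leaf [3,2,3,2,0,3,2,3,2,3,2])))
 (Tr.node (Tr.node (Tr.leaf [0,4,0,4])
 (Tr.leaf [0,4,2,1,0,2,1,0,2,1]))
 (Tr.node (Tr.leaf [4,6,4,6])
 (Tr.leaf [6,2,3,5,6,2,3,5,6,2,3,5,6,2,3,5]))))
 (Tr.node (Tr.node (Tr.node (Tr.leaf [5,3,6])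
 (Tr.leaf [1,0,2,1,0,4,2,1,0,2]))
 (Tr.node (Tr.leaf [3,4,3,4,3,4])
 (Tr.leaf [2,3,5,6,2,3,5,6,2,3,5,6,2,3,5,6])))
 (Tr.node (Tr.node (Tr.leaf [1,3,1,3])
 (Tr.leaf [3,2,3,2,3,2,3,2,0,3,2]))
 (Tr.node (Tr.leaf [5,6,5,4,6])
 (Tr.leaf [6,2,3,5,6,2,3,5,6,2,3,5,6,2,3,5]))))))
 (Tr.node (Tr.node (Tr.node (Tr.node (Tr.node (Tr.leaf [2,2])
 (Tr.leaf [4,2,1,0,2,1,0,2,1,0]))
 (Tr.node (Tr.leaf [1,6,1,6])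
 (Tr.leaf [2,3,2,3,2,0,3,2,3,2,3])))
 (Tr.node (Tr.node (Tr.leaf [0,3,0,3])
 (Tr.leaf [1,0,4,2,1,0,2,1,0,2]))
 (Tr.node (Tr.leaf [4,5,4,5])
 (Tr.leaf [6,2,3,5,6,2,3,5,6,2,3,5,6,2,3,5]))))
 (Tr.node (Tr.node (Tr.node (Tr.leaf [6,5,3])
 (Tr.leaf [2,1,0,2,1,0,4,2,1,0]))
 (Tr.node (Tr.leaf [2,6,2,6])
 (Tr.leaf [2,0,3,2,3,2,3,2,3,2,3])))
 (Tr.node (Tr.node (Tr.leaf [1,2,1,2,1,2])
 (Tr.leaf [2,3,2,3,2,3,2,3,2,0,3]))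
 (Tr.node (Tr.leaf [6,5,6,5,4])
 (Tr.leaf [6,2,3,5,6,2,3,5,6,2,3,5,6,2,3,5])))))
 (Tr.node (Tr.node (Tr.node (Tr.node (Tr.leaf [6,6])
 (Tr.leaf [1,0,2,1,0,2,1,0,4,2]))
 (Tr.node (Tr.leaf [2,4,2,4])
 (Tr.leaf [2,3,2,0,3,2,3,2,3,2,3])))
 (Tr.node (Tr.node (Tr.leaf [0,5,0,5])
 (Tr.leaf [0,3,2,3,2,3,2,3,2,3,2]))
 (Tr.node (Tr.leaf [5,6,5,6,5,6,5,6])
 (Tr.leaf [6,2,3,5,6,2,3,5,6,2,3,5,6,2,3,5]))))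
 (Tr.node (Tr.node (Tr.node (Tr.leaf [0,1,0,1,0,1,0,1])
 (Tr.leaf [0,2,1,0,4,2,1,0,2,1]))
 (Tr.node (Tr.leaf [3,5,3,5,3,5])
 (Tr.leaf [3,5,6,2,3,5,6,2,3,5,6,2,3,5,6,2])))
 (Tr.node (Tr.node (Tr.leaf [1,4,1,4])
 (Tr.leaf [2,3,2,3,2,3,2,0,3,2,3]))
 (Tr.node (Tr.leaf [6,5,4,6,5])
 (Tr.leaf [6,2,3,5,6,2,3,5,6,2,3,5,6,2,3,5]))))))))

/-- The subgroup rotations. -/
noncomputable def srotT : Tr (List Nat × Nat × List Nat) := (Tr.leaf ([],0,[]))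

/-- The certificate. -/
noncomputable def cert : Cert :=
  mkCert 7 11 50 5 116 116 4 15 147 17 119 140 131071 2097151 6 4 63 15 10 8 7 ctree.get rotT.get srotT.get

/-- The witnesses of the rotations. -/
noncomputable def witT : Tr (Nat × Nat × Bool) := (Tr.node (Tr.node (Tr.node (Tr.node (Tr.node (Tr.node (Tr.node (Tr.leaf (0,0,false))
 (Tr.leaf (29,4,false)))
 (Tr.node (Tr.leaf (12,0,false))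
 (Tr.leaf (31,5,false))))
 (Tr.node (Tr.node (Tr.leaf (3,0,false))
 (Tr.leaf (30,7,false)))
 (Tr.node (Tr.leaf (22,0,false))
 (Tr.leaf (32,2,false)))))
 (Tr.node (Tr.node (Tr.node (Tr.leaf (0,0,false))
 (Tr.leaf (30,3,false)))
 (Tr.node (Tr.leaf (17,0,false))
 (Tr.leaf (31,9,false))))
 (Tr.node (Tr.node (Tr.leaf (7,0,false))
 (Tr.leaf (31,1,false)))
 (Tr.node (Tr.leaf (29,0,false))
 (Tr.leaf (32,3,true))))))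
 (Tr.node (Tr.node (Tr.node (Tr.node (Tr.leaf (19,0,false))
 (Tr.leaf (30,1,false)))
 (Tr.node (Tr.leaf (15,0,false))
 (Tr.leaf (31,7,false))))
 (Tr.node (Tr.node (Tr.leaf (5,0,false))
 (Tr.leaf (30,9,false)))
 (Tr.node (Tr.leaf (25,0,false))
 (Tr.leaf (32,3,true)))))
 (Tr.node (Tr.node (Tr.node (Tr.leaf (0,2,false))
 (Tr.leaf (30,5,false)))
 (Tr.node (Tr.leaf (20,0,false))
 (Tr.leaf (32,0,false))))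
 (Tr.node (Tr.node (Tr.leaf (10,0,false))
 (Tr.leaf (31,3,false)))
 (Tr.node (Tr.leaf (29,2,false))
 (Tr.leaf (32,3,true)))))))
 (Tr.node (Tr.node (Tr.node (Tr.node (Tr.node (Tr.leaf (8,0,false))
 (Tr.leaf (30,0,false)))
 (Tr.node (Tr.leaf (13,0,false))
 (Tr.leaf (31,6,false))))
 (Tr.node (Tr.node (Tr.leaf (4,0,false))
 (Tr.leaf (30,8,false)))
 (Tr.node (Tr.leaf (24,0,false))
 (Tr.leaf (32,3,false)))))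
 (Tr.node (Tr.node (Tr.node (Tr.leaf (0,1,false))
 (Tr.leaf (30,4,false)))
 (Tr.node (Tr.leaf (18,0,false))
 (Tr.leaf (31,10,false))))
 (Tr.node (Tr.node (Tr.leaf (9,0,false))
 (Tr.leaf (31,2,false)))
 (Tr.node (Tr.leaf (29,1,false))
 (Tr.leaf (32,3,true))))))
 (Tr.node (Tr.node (Tr.node (Tr.node (Tr.leaf (26,0,false))
 (Tr.leaf (30,2,false)))
 (Tr.node (Tr.leaf (16,0,false))
 (Tr.leaf (31,8,false))))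
 (Tr.node (Tr.node (Tr.leaf (6,0,false))
 (Tr.leaf (31,0,false)))
 (Tr.node (Tr.leaf (27,0,false))
 (Tr.leaf (32,3,true)))))
 (Tr.node (Tr.node (Tr.node (Tr.leaf (2,0,false))
 (Tr.leaf (30,6,false)))
 (Tr.node (Tr.leaf (21,0,false))
 (Tr.leaf (32,1,false))))
 (Tr.node (Tr.node (Tr.leaf (11,0,false))
 (Tr.leaf (31,4,false)))
 (Tr.node (Tr.leaf (29,3,false))
 (Tr.leaf (32,3,true))))))))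
 (Tr.node (Tr.node (Tr.node (Tr.node (Tr.node (Tr.node (Tr.leaf (1,0,false))
 (Tr.leaf (29,4,true)))
 (Tr.node (Tr.leaf (12,1,false))
 (Tr.leaf (31,5,true))))
 (Tr.node (Tr.node (Tr.leaf (3,1,false))
 (Tr.leaf (30,7,true)))
 (Tr.node (Tr.leaf (22,1,false))
 (Tr.leaf (32,2,true)))))
 (Tr.node (Tr.node (Tr.node (Tr.leaf (0,0,true))
 (Tr.leaf (30,3,true)))
 (Tr.node (Tr.leaf (17,1,false))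
 (Tr.leaf (31,9,true))))
 (Tr.node (Tr.node (Tr.leaf (7,1,false))
 (Tr.leaf (31,1,true)))
 (Tr.node (Tr.leaf (29,0,true))
 (Tr.leaf (32,3,true))))))
 (Tr.node (Tr.node (Tr.node (Tr.node (Tr.leaf (23,0,false))
 (Tr.leaf (30,1,true)))
 (Tr.node (Tr.leaf (15,1,false))
 (Tr.leaf (31,7,true))))
 (Tr.node (Tr.node (Tr.leaf (5,1,false))
 (Tr.leaf (30,9,true)))
 (Tr.node (Tr.leaf (25,1,false))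
 (Tr.leaf (32,3,true)))))
 (Tr.node (Tr.node (Tr.node (Tr.leaf (0,2,true))
 (Tr.leaf (30,5,true)))
 (Tr.node (Tr.leaf (20,1,false))
 (Tr.leaf (32,0,true))))
 (Tr.node (Tr.node (Tr.leaf (10,1,false))
 (Tr.leaf (31,3,true)))
 (Tr.node (Tr.leaf (29,2,true))
 (Tr.leaf (32,3,true)))))))
 (Tr.node (Tr.node (Tr.node (Tr.node (Tr.node (Tr.leaf (14,0,false))
 (Tr.leaf (30,0,true)))
 (Tr.node (Tr.leaf (13,1,false))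
 (Tr.leaf (31,6,true))))
 (Tr.node (Tr.node (Tr.leaf (4,1,false))
 (Tr.leaf (30,8,true)))
 (Tr.node (Tr.leaf (24,1,false))
 (Tr.leaf (32,3,true)))))
 (Tr.node (Tr.node (Tr.node (Tr.leaf (0,1,true))
 (Tr.leaf (30,4,true)))
 (Tr.node (Tr.leaf (18,1,false))
 (Tr.leaf (31,10,true))))
 (Tr.node (Tr.node (Tr.leaf (9,1,false))
 (Tr.leaf (31,2,true)))
 (Tr.node (Tr.leaf (29,1,true))
 (Tr.leaf (32,3,true))))))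
 (Tr.node (Tr.node (Tr.node (Tr.node (Tr.leaf (28,0,false))
 (Tr.leaf (30,2,true)))
 (Tr.node (Tr.leaf (16,1,false))
 (Tr.leaf (31,8,true))))
 (Tr.node (Tr.node (Tr.leaf (6,1,false))
 (Tr.leaf (31,0,true)))
 (Tr.node (Tr.leaf (27,1,false))
 (Tr.leaf (32,3,true)))))
 (Tr.node (Tr.node (Tr.node (Tr.leaf (2,1,false))
 (Tr.leaf (30,6,true)))
 (Tr.node (Tr.leaf (21,1,false))
 (Tr.leaf (32,1,true))))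
 (Tr.node (Tr.node (Tr.leaf (11,1,false))
 (Tr.leaf (31,4,true)))
 (Tr.node (Tr.leaf (29,3,true))
 (Tr.leaf (32,3,true)))))))))

/-- The element. -/
def xw : List Nat := [5,6,3]

/-- Its power. -/
def xwp : List Nat := [5,6,3,5,6,3,5,6,3,5,6,3,5,6,3,5,6,3,5,6,3]

theorem hxwp : (List.replicate 7 xw).flatten = xwp := by decide

end Cfsg.Agent.Lib.TC.D.HeChain.X_Tab
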